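import Cfsg.Agent.Foote.Bridge
import Cfsg.Agent.Foote.Ind
import Cfsg.Agent.ClosedTwo.Alt
import Cfsg.Agent.KFacts.HN.SheetM

/-!
# Foote's theorem, simple case: the row `HN` (helper29)
-/

set_option autoImplicit false

namespace Cfsg.Agent.Foote

open Subgroup Cfsg.Agent.TwoFusion.ClosedFam

/-- commuting elements of a closed family -/
theorem mul_mem_comm {X : Type*} [Group X] {𝒜 : Set X} (h : IsClosedFam 𝒜) {x y : X} (hx : x ∈ 𝒜) (hy : y ∈ 𝒜)
    (hxy : x * y = y * x) : x * y ∈ 𝒜 := by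
  have h1 : zpowers x ≤ normalizer (zpowers y : Set X) := by
    rw [zpowers_le, mem_normalizer_iff]
    intro b
    constructor
    · intro hb
      obtain ⟨i, rfl⟩ := mem_zpowers_iff.1 hb
      have hc : Commute x (y ^ i) := Commute.zpow_right hxy i
      rw [hc.eq, mul_inv_cancel_right]
      exact zpow_mem (mem_zpowers y) i
    · intro hb
      obtain ⟨i, hi⟩ := mem_zpowers_iff.1 hb
      have hc : Commute x (y ^ i) := Commute.zpow_right hxy i
      have hb' : b = y ^ i := by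
        have e1 : b = x⁻¹ * (x * b * x⁻¹) * x := by group
        rw [e1, ← hi, mul_assoc, ← hc.eq, inv_mul_cancel_left]
      rw [hb']
      exact zpow_mem (mem_zpowers y) i
  have h2 : IsPGroup 2 (zpowers x ⊔ zpowers y : Subgroup X) :=
    (h.isPGroup_zpowers hx).to_sup_of_normal_right' (h.isPGroup_zpowers hy) h1
  exact h.mul_mem _ h2 x (mem_sup_left (mem_zpowers x)) y (mem_sup_right (mem_zpowers y)) hx hy

/-- the elements of a closed family in a factor of a direct product -/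
theorem isClosedFam_fst {X Y : Type*} [Group X] [Group Y] {𝒜 : Set (X × Y)} (h : IsClosedFam 𝒜) :
    IsClosedFam {x : X | (x, (1 : Y)) ∈ 𝒜} where
  one_mem := h.one_mem
  conj_mem x hx g := by
    have := h.conj_mem _ hx (g, 1)
    simpa using this
  two x hx := by
    obtain ⟨k, hk⟩ := h.two _ hx
    refine ⟨k, ?_⟩
    have := congrArg Prod.fst hk
    simpa using this
  mul_mem Q hQ x hxQ y hyQ hx hy := by
    have := h.mul_mem (Q.map (MonoidHom.inl X Y)) (hQ.map _) _ ⟨x, hxQ, rfl⟩ _ ⟨y, hyQ, rfl⟩ hx hy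
    simpa using this

theorem isClosedFam_snd {X Y : Type*} [Group X] [Group Y] {𝒜 : Set (X × Y)} (h : IsClosedFam 𝒜) :
    IsClosedFam {y : Y | ((1 : X), y) ∈ 𝒜} where
  one_mem := h.one_mem
  conj_mem x hx g := by
    have := h.conj_mem _ hx (1, g)
    simpa using this
  two x hx := by
    obtain ⟨k, hk⟩ := h.two _ hx
    refine ⟨k, ?_⟩
    have := congrArg Prod.snd hk
    simpa using this
  mul_mem Q hQ x hxQ y hyQ hx hy := by
    have := h.mul_mem (Q.map (MonoidHom.inr X Y)) (hQ.map _) _ ⟨x, hxQ, rfl⟩ _ ⟨y, hyQ, rfl⟩ hx hy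
    simpa using this

namespace Row.HN

open Cfsg.Agent.KFacts.HN Cfsg.Agent.HN Cfsg.Agent.HN.XStruct Cfsg.Agent.HN.XWords Cfsg.Agent.HN.XQuot

theorem a5_sq : ∀ a : A5, a * a * (a * a) = 1 → a * a = 1 := by decide +kernel

theorem a5_conj : ∀ a : A5, a * a = 1 → a ≠ 1 → ∃ g : A5, a * (g * a * g⁻¹) ≠ 1 ∧
    a * (g * a * g⁻¹) = (g * a * g⁻¹) * a := by decide +kernel

theorem a5_two {a : A5} (ha : TwoEl a) : a * a = 1 := by
  obtain ⟨k, hk⟩ := ha
  apply a5_sq
  have h1 : orderOf a ∣ 2 ^ k := orderOf_dvd_of_pow_eq_one hk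
  have h2 : orderOf a ∣ 60 := by
    have := orderOf_dvd_natCard a
    rwa [nat_card_alternatingGroup, Nat.card_eq_fintype_card, Fintype.card_fin,
      show Nat.factorial 5 / 2 = 60 by decide] at this
  have h3 : orderOf a ∣ 4 := by
    obtain ⟨j, -, hj⟩ := (Nat.dvd_prime_pow Nat.prime_two).1 h1
    rw [hj] at h2 ⊢
    have h4 : 2 ^ j ∣ 4 * 15 := h2
    exact (Nat.Coprime.dvd_of_dvd_mul_right (Nat.Coprime.pow_left j (by decide)) h4)
  have h4 := orderOf_dvd_iff_pow_eq_one.1 h3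
  calc a * a * (a * a) = a ^ 4 := by simp only [pow_succ, pow_zero, one_mul, mul_assoc]
    _ = 1 := h4

/-- the closed families of `A₅ × A₅` with nontrivial projections are full -/
theorem full_prod {ℬ : Set (A5 × A5)} (h : IsClosedFam ℬ) (h1 : ∃ x ∈ ℬ, x.1 ≠ 1) (h2 : ∃ x ∈ ℬ, x.2 ≠ 1) :
    Full ℬ := by
  have hA : CR A5 := cr_of_closedRow Cfsg.Agent.ClosedTwo.Alt.closedRow
  have htwo : ∀ x ∈ ℬ, x.1 * x.1 = 1 ∧ x.2 * x.2 = 1 := by
    intro x hx
    obtain ⟨k, hk⟩ := h.two x hx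
    exact ⟨a5_two ⟨k, by simpa using congrArg Prod.fst hk⟩, a5_two ⟨k, by simpa using congrArg Prod.snd hk⟩⟩
  have hF : ∀ a : A5, TwoEl a → (a, (1 : A5)) ∈ ℬ := by
    rcases hA _ (isClosedFam_fst h) with hc | hc
    · exfalso
      obtain ⟨⟨a, b⟩, hab, ha⟩ := h1
      obtain ⟨haa, hbb⟩ := htwo _ hab
      obtain ⟨g, hg1, hg2⟩ := a5_conj a haa ha
      have h3 : (g * a * g⁻¹, b) ∈ ℬ := by simpa using h.conj_mem _ hab (g, 1)
      have h4 : (a, b) * (g * a * g⁻¹, b) ∈ ℬ := mul_mem_comm h hab h3 (by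
        rw [Prod.mk_mul_mk, Prod.mk_mul_mk, hg2])
      rw [Prod.mk_mul_mk, hbb] at h4
      exact hg1 (hc _ h4)
    · exact hc
  have hS : ∀ b : A5, TwoEl b → ((1 : A5), b) ∈ ℬ := by
    rcases hA _ (isClosedFam_snd h) with hc | hc
    · exfalso
      obtain ⟨⟨a, b⟩, hab, hb⟩ := h2
      obtain ⟨haa, hbb⟩ := htwo _ hab
      obtain ⟨g, hg1, hg2⟩ := a5_conj b hbb hb
      have h3 : (a, g * b * g⁻¹) ∈ ℬ := by simpa using h.conj_mem _ hab (1, g)
      have h4 : (a, b) * (a, g * b * g⁻¹) ∈ ℬ := mul_mem_comm h hab h3 (by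
        rw [Prod.mk_mul_mk, Prod.mk_mul_mk, hg2])
      rw [Prod.mk_mul_mk, haa] at h4
      exact hg1 (hc _ h4)
    · exact hc
  rintro ⟨a, b⟩ hab
  have h3 := hF a (hab.map (MonoidHom.fst A5 A5))
  have h4 := hS b (hab.map (MonoidHom.snd A5 A5))
  have h5 := mul_mem_comm h h3 h4 (by simp)
  simpa using h5

theorem cr (hG : commutator Spor.HN = ⊤) : CR Spor.HN := by
  have := finite_HN
  have hPP : PP = centralizer ({W0} : Set Spor.HN) := by
    ext x
    rw [mem_centralizer_singleton_iff]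
    exact mem_PP
  refine cr_of_sheet' hG (Cor.of_sheetE sheetE) (idx_of_rel (Or.inr (by rw [← hPP]; exact relIndex_MM))) ?_
  intro 𝒜 h hR hne
  obtain ⟨f, hf, hfρ⟩ := exists_f
  have hr := h.restrict MM
  -- the kernel
  have hker : ∀ x : MM, f x = 1 → (x : Spor.HN) ∈ RS := by
    intro x hx
    have h5 := hfρ x
    rw [hx, map_one] at h5
    exact ⟨⟨x, MM_le_PP x.2⟩, h5.symm, rfl⟩
  refine full_on_of_image f hf (fun x _ hx => hker x hx) h hR ?_
  -- the subgroup generated by the elements of the family in `MM`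
  have hX : MM ≤ fam 𝒜 MM := by
    rcases normal_cases (X := fam 𝒜 MM) ((fam_le _ _).trans MM_le_PP) (fun u hu x hx =>
      h.conj_mem_fam (fun y hy => conj_MM hu hy) hx) with h1 | h1
    · exfalso
      obtain ⟨x, hx, hxM, hxR⟩ := hne
      exact hxR (h1 (mem_fam hx hxM))
    · exact h1
  have hclosure : ∀ T : Subgroup (A5 × A5), (∀ x : MM, (x : Spor.HN) ∈ 𝒜 → f x ∈ T) → T = ⊤ := by
    intro T hT
    rw [eq_top_iff]
    intro y _
    obtain ⟨x, rfl⟩ := hf y
    have h1 : fam 𝒜 MM ≤ (T.comap f).map MM.subtype := by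
      rw [fam_le_iff]
      intro a ha haM
      exact ⟨⟨a, haM⟩, hT ⟨a, haM⟩ ha, rfl⟩
    obtain ⟨x', hx', hxx⟩ := h1 (hX x.2)
    have : x' = x := Subtype.ext hxx
    rw [← this]
    exact hx'
  refine full_prod (hr.image hf) ?_ ?_
  · by_contra hcon
    push Not at hcon
    have h1 := hclosure (MonoidHom.fst A5 A5).ker (fun x hx => by
      rw [MonoidHom.mem_ker]
      exact hcon _ ⟨x, hx, rfl⟩)
    obtain ⟨a, ha⟩ : ∃ a : A5, a ≠ 1 := by decide +kernel
    have h2 : ((a, 1) : A5 × A5) ∈ (MonoidHom.fst A5 A5).ker := by rw [h1]; exact mem_top _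
    exact ha h2
  · by_contra hcon
    push Not at hcon
    have h1 := hclosure (MonoidHom.snd A5 A5).ker (fun x hx => by
      rw [MonoidHom.mem_ker]
      exact hcon _ ⟨x, hx, rfl⟩)
    obtain ⟨a, ha⟩ : ∃ a : A5, a ≠ 1 := by decide +kernel
    have h2 : ((1, a) : A5 × A5) ∈ (MonoidHom.snd A5 A5).ker := by rw [h1]; exact mem_top _
    exact ha h2

end Row.HN

end Cfsg.Agent.Foote
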