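import Cfsg.Agent.Foote.Sheet
import Cfsg.Agent.Foote.Bridge
import Cfsg.Agent.QTNorm.SporHS

/-!
# Foote's theorem, simple case: the Higman–Sims group (helper62)

`C(z)/R` is the symmetric group of degree 5 acting on the masks by the words of `S5W`; a closed family contains `R` and the
transposition `w = k⁻¹ z k`, hence (products of commuting transpositions, conjugates) all `2`-elements of `C(z)`.
-/

set_option autoImplicit false
set_option linter.style.haveILetI false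
set_option maxRecDepth 100000

namespace Cfsg.Agent.Foote.Row.HS

open Cfsg Subgroup Cfsg.Agent.Foote Cfsg.Agent.ClosedTwo Cfsg.Agent.TwoFusion.ClosedFam
open Cfsg.Agent.HN Cfsg.Agent.HN.Pres Cfsg.Agent.HN.HS100 Cfsg.Agent.HN.H0Basic
open Cfsg.Agent.HN.WMask Cfsg.Agent.HN.XMat Cfsg.Agent.KFacts.HS Cfsg.Agent.KFacts.HS.Cent
open Cfsg.Agent.QTNorm.HSRow (W8 W8_sub A8)

/-! ### words -/

/-- the seven conditions -/
def all7 (f : ℕ → Bool) : Bool := f 0 && f 1 && f 2 && f 3 && f 4 && f 5 && f 6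

theorem all7_iff {f : ℕ → Bool} (h : all7 f = true) : ∀ i < 7, f i = true := by
  intro i hi
  simp only [all7, Bool.and_eq_true] at h
  obtain ⟨⟨⟨⟨⟨⟨h0, h1⟩, h2⟩, h3⟩, h4⟩, h5⟩, h6⟩ := h
  interval_cases i <;> assumption

/-- `fw w'` is conjugate to `fw w` by `fw v`: on basis elements -/
def cjB (w w' v : List ℕ) : Bool := all7 (fun i => Nat.beq (fw w' (fw v (2 ^ i))) (fw v (fw w (2 ^ i))))

theorem cjB_iff {w w' v : List ℕ} (h : cjB w w' v = true) : ∀ i < 7, fw w' (fw v (2 ^ i)) = fw v (fw w (2 ^ i)) :=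
  fun i hi => Nat.eq_of_beq_eq_true (all7_iff h i hi)

def mulB (w w' w3 : List ℕ) : Bool := all7 (fun i => Nat.beq (fw w3 (2 ^ i)) (fw w' (fw w (2 ^ i))))

theorem mulB_iff {w w' w3 : List ℕ} (h : mulB w w' w3 = true) : ∀ i < 7, fw w3 (2 ^ i) = fw w' (fw w (2 ^ i)) :=
  fun i hi => Nat.eq_of_beq_eq_true (all7_iff h i hi)

/-- the fourth power is trivial -/
def p4B (w : List ℕ) : Bool := all7 (fun i => Nat.beq (fw w (fw w (fw w (fw w (2 ^ i))))) (2 ^ i))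

theorem p4B_iff {w : List ℕ} (h : p4B w = true) : ∀ i < 7, fw w (fw w (fw w (fw w (2 ^ i)))) = 2 ^ i :=
  fun i hi => Nat.eq_of_beq_eq_true (all7_iff h i hi)

/-- the words of order dividing 4 are conjugate to words of `W8` -/
def chk4 (w : List ℕ) : Bool := !(p4B w) || W8.any fun w' => S5W.any fun v => cjB w' w v

theorem chk4_all : S5W.all chk4 = true := by decide +kernel

/-- the power `n` is trivial -/
def pnB (n : ℕ) (w : List ℕ) : Bool := all7 (fun i => Nat.beq ((fw w)^[n] (2 ^ i)) (2 ^ i))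

/-- the fourth, fifth or sixth power is trivial -/
def p60B (w : List ℕ) : Bool := pnB 4 w || (pnB 5 w || pnB 6 w)

theorem chk60_all : S5W.all p60B = true := by decide +kernel

theorem pnB_iff {n : ℕ} {w : List ℕ} (h : pnB n w = true) : ∀ i < 7, (fw w)^[n] (2 ^ i) = 2 ^ i :=
  fun i hi => Nat.eq_of_beq_eq_true (all7_iff h i hi)

theorem p60B_iff {w : List ℕ} (h : p60B w = true) : ∀ i < 7, (fw w)^[60] (2 ^ i) = 2 ^ i := by
  intro i hi
  rw [p60B, Bool.or_eq_true, Bool.or_eq_true] at h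
  rcases h with h | h | h
  · have h1 := Function.iterate_fixed (pnB_iff h i hi) 15
    rwa [← Function.iterate_mul] at h1
  · have h1 := Function.iterate_fixed (pnB_iff h i hi) 12
    rwa [← Function.iterate_mul] at h1
  · have h1 := Function.iterate_fixed (pnB_iff h i hi) 10
    rwa [← Function.iterate_mul] at h1

theorem W8_p4 : W8.all p4B = true := by decide +kernel

/-! ### the family -/

variable {L : Type*} [Group L] (D : Cfsg.Agent.KFacts.HS.Mod L) {𝒜 : Set L}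

/-- an element of the family acts as the word `w` -/
def GW (𝒜 : Set L) (w : List ℕ) : Prop := ∃ (g : H0) (hg : g ∈ Pt), Act g (fw w) ∧ D.π ⟨g, KFacts.HS.Mod.Pt_le_K hg⟩ ∈ 𝒜

theorem exists_inv {g : H0} {w : List ℕ} (hg : Act g (fw w)) : ∃ u ∈ S5W, Act g⁻¹ (fw u) ∧
    (∀ m < 128, fw u (fw w m) = m) ∧ ∀ m < 128, fw w (fw u m) = m := by
  have hb : b * g⁻¹ = g⁻¹ * b := by
    rw [eq_inv_mul_iff_mul_eq, ← mul_assoc, ← hg.cb, mul_assoc, mul_inv_cancel, mul_one]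
  obtain ⟨u, hu, ha⟩ := Act.exists_of_comm hb
  refine ⟨u, hu, ha, fun m hm => ?_, fun m hm => ?_⟩
  · have h1 := hg.mul ha
    rw [mul_inv_cancel] at h1
    exact h1.uniq Act.one hm
  · have h1 := ha.mul hg
    rw [inv_mul_cancel] at h1
    exact h1.uniq Act.one hm

/-- elements acting trivially -/
theorem mem_Rt_of_triv {g : H0} (hg : g ∈ K) {f : ℕ → ℕ} (ha : Act g f) (hf : ∀ i < 7, f (2 ^ i) = 2 ^ i) : g ∈ Rt := by
  obtain ⟨m, hm, e, rfl⟩ := ha.mem_W hf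
  exact ⟨⟨m, hm, e, rfl⟩, hg⟩

/-- all the elements acting as a good word are in the family -/
theorem GW.all (h : IsClosedFam 𝒜) [Finite L] (hR : ∀ r ∈ D.R, r ∈ 𝒜) {w : List ℕ} (hw : GW D 𝒜 w) {x : H0} (hx : x ∈ Pt)
    (hxa : Act x (fw w)) : D.π ⟨x, KFacts.HS.Mod.Pt_le_K hx⟩ ∈ 𝒜 := by
  obtain ⟨g, hg, hga, hgm⟩ := hw
  obtain ⟨u, -, hua, -, hu2⟩ := exists_inv hga
  obtain ⟨u1, -, hu1a, hu3, -⟩ := exists_inv hga
  -- `r = g⁻¹ x`
  have hrt : g⁻¹ * x ∈ Rt := by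
    refine mem_Rt_of_triv (K.mul_mem (K.inv_mem (KFacts.HS.Mod.Pt_le_K hg)) (KFacts.HS.Mod.Pt_le_K hx)) (hua.mul hxa) ?_
    exact fun i hi => hu2 _ (two_pow_lt hi)
  have hrK := KFacts.HS.Mod.Rt_le_K hrt
  have hrR : D.π ⟨g⁻¹ * x, hrK⟩ ∈ D.R := (D.π_mem_im τ_mem_Rt hrK).2 hrt
  have hnK : IsPGroup 2 (D.R.subgroupOf (centralizer ({D.z} : Set L))) :=
    D.isPGroup_R.comap_of_injective _ (Subgroup.subtype_injective _)
  haveI : (D.R.subgroupOf (centralizer ({D.z} : Set L))).Normal := ⟨fun n hn c => by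
    rw [mem_subgroupOf] at hn ⊢
    exact D.Rn' (mem_centralizer_singleton_iff.1 c.2) hn⟩
  have hgc : D.π ⟨g, KFacts.HS.Mod.Pt_le_K hg⟩ ∈ centralizer ({D.z} : Set L) :=
    mem_centralizer_singleton_iff.2 ((D.comm_z _).2 hg)
  have hrc : D.π ⟨g⁻¹ * x, hrK⟩ ∈ centralizer ({D.z} : Set L) := D.P_le (D.RP hrR)
  have h1 := mul_mem_normal (h.restrict (centralizer ({D.z} : Set L))) hnK (a := ⟨_, hgc⟩) (n := ⟨_, hrc⟩) hgm
    (mem_subgroupOf.2 hrR) (hR _ hrR)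
  have e : D.π ⟨x, KFacts.HS.Mod.Pt_le_K hx⟩ = D.π ⟨g, KFacts.HS.Mod.Pt_le_K hg⟩ * D.π ⟨g⁻¹ * x, hrK⟩ := by
    rw [D.π_mul]
    exact D.π_congr _ (by group)
  rw [e]
  exact h1

/-- conjugation -/
theorem GW.conj (h : IsClosedFam 𝒜) {w w' v : List ℕ} (hw : GW D 𝒜 w) (hw' : w' ∈ S5W) (hv : v ∈ S5W)
    (hc : cjB w w' v = true) : GW D 𝒜 w' := by
  obtain ⟨g, hg, hga, hgm⟩ := hw
  have hvK : E v ∈ K := E_mem_K (S5_lt hv)
  have hva : Act (E v) (fw v) := Act.E (S5_lt hv)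
  have hvP : E v ∈ Pt := mem_Pt.2 ⟨hva.cb.symm, hvK⟩
  obtain ⟨u, hu, hua, hu1, hu2⟩ := exists_inv hva
  have hx : (E v)⁻¹ * g * E v ∈ Pt := Pt.mul_mem (Pt.mul_mem (Pt.inv_mem hvP) hg) hvP
  have hxa : Act ((E v)⁻¹ * g * E v) (fun m => fw v (fw w (fw u m))) := (hua.mul hga).mul hva
  -- the conjugation relation for all masks
  have h1 : ∀ m < 128, fw w' (fw v m) = fw v (fw w m) :=
    Act.ext (hva.mul (Act.el 0 hw' false)) (hga.mul hva) (cjB_iff hc)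
  obtain ⟨w2, hw2, ha2⟩ := Act.exists_of_comm hxa.cb
  have h2 : w2 = w' := by
    refine key_inj hw2 hw' (key_congr fun i hi => ?_)
    rw [ha2.uniq hxa (two_pow_lt hi)]
    have h3 : fw u (2 ^ i) < 128 := fw_lt (S5_lt hu) (two_pow_lt hi)
    rw [← h1 _ h3, hu2 _ (two_pow_lt hi)]
  subst h2
  refine ⟨_, hx, ha2, ?_⟩
  have e : D.π ⟨(E v)⁻¹ * g * E v, KFacts.HS.Mod.Pt_le_K hx⟩ =
      (D.π ⟨E v, hvK⟩)⁻¹ * D.π ⟨g, KFacts.HS.Mod.Pt_le_K hg⟩ * (D.π ⟨E v, hvK⟩)⁻¹⁻¹ := by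
    rw [inv_inv, D.π_inv, D.π_mul, D.π_mul]
  rw [e]
  exact h.conj_mem _ hgm _

/-- the image of `A8` is a 2-group -/
theorem isPGroup_A8 : IsPGroup 2 (D.im (A8 ⊓ K)) := by
  rintro ⟨l, hl⟩
  obtain ⟨g, hk, ⟨hg, -⟩, rfl⟩ := D.mem_im.1 hl
  obtain ⟨w, hw, ha⟩ := hg
  have h1 := p4B_iff (List.all_eq_true.1 W8_p4 w hw)
  have h2 : Act (g ^ 4) (fun m => fw w (fw w (fw w (fw w m)))) := by
    have e : g ^ 4 = g * g * g * g := by simp only [pow_succ, pow_zero, one_mul]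
    rw [e]
    exact ((ha.mul ha).mul ha).mul ha
  have h3 : g ^ 4 ∈ Rt := mem_Rt_of_triv (K.pow_mem hk 4) h2 h1
  have h4 : D.π ⟨g ^ 4, K.pow_mem hk 4⟩ ∈ D.R := (D.π_mem_im τ_mem_Rt _).2 h3
  obtain ⟨k, hk2⟩ := D.isPGroup_R ⟨_, h4⟩
  refine ⟨2 + k, Subtype.ext ?_⟩
  have h5 : (D.π ⟨g ^ 4, K.pow_mem hk 4⟩) ^ 2 ^ k = 1 := congrArg Subtype.val hk2
  have h6 : D.π ⟨g ^ 4, K.pow_mem hk 4⟩ = D.π ⟨g, hk⟩ ^ 4 := by rw [← map_pow]; rfl
  rw [h6] at h5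
  show D.π ⟨g, hk⟩ ^ 2 ^ (2 + k) = 1
  rw [pow_add, pow_mul]
  exact h5

/-- products in `W8` -/
theorem GW.mul (h : IsClosedFam 𝒜) {w w' w3 : List ℕ} (hw : GW D 𝒜 w) (hw' : GW D 𝒜 w') (h8 : w ∈ W8) (h8' : w' ∈ W8)
    (h83 : w3 ∈ W8) (hm : mulB w w' w3 = true) : GW D 𝒜 w3 := by
  obtain ⟨g, hg, hga, hgm⟩ := hw
  obtain ⟨g', hg', hga', hgm'⟩ := hw'
  have ha := hga.mul hga'
  obtain ⟨w2, hw2, ha2⟩ := Act.exists_of_comm ha.cb
  have h2 : w2 = w3 := by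
    refine key_inj hw2 (W8_sub _ h83) (key_congr fun i hi => ?_)
    rw [ha2.uniq ha (two_pow_lt hi), mulB_iff hm i hi]
  subst h2
  refine ⟨_, Pt.mul_mem hg hg', ha2, ?_⟩
  rw [← D.π_mul (KFacts.HS.Mod.Pt_le_K hg) (KFacts.HS.Mod.Pt_le_K hg')]
  refine h.mul_mem _ (isPGroup_A8 D) _ ?_ _ ?_ hgm hgm'
  · exact D.mem_im.2 ⟨g, KFacts.HS.Mod.Pt_le_K hg, ⟨⟨w, h8, hga⟩, KFacts.HS.Mod.Pt_le_K hg⟩, rfl⟩
  · exact D.mem_im.2 ⟨g', KFacts.HS.Mod.Pt_le_K hg', ⟨⟨w', h8', hga'⟩, KFacts.HS.Mod.Pt_le_K hg'⟩, rfl⟩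

theorem GW.one (h : IsClosedFam 𝒜) : GW D 𝒜 [] := ⟨1, Pt.one_mem, Act.one, by
  have : D.π ⟨1, KFacts.HS.Mod.Pt_le_K Pt.one_mem⟩ = 1 := D.π_one _
  rw [this]; exact h.one_mem⟩

/-- the words of `W8` are good -/
theorem W8_good (h : IsClosedFam 𝒜) (h0 : GW D 𝒜 w00) : ∀ w ∈ W8, GW D 𝒜 w := by
  have g1 : GW D 𝒜 [1, 0, 1, 0, 1] := h0.conj D h (v := [1]) (by decide +kernel) (by decide +kernel) (by decide +kernel)
  have g6 : GW D 𝒜 [0, 0, 1, 0, 1, 1, 1, 0, 1] :=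
    h0.conj D h (v := [1, 1, 1]) (by decide +kernel) (by decide +kernel) (by decide +kernel)
  have g3 : GW D 𝒜 [0, 1, 0, 0, 1, 0, 1, 1] :=
    g1.mul D h g6 (by decide) (by decide) (by decide) (by decide +kernel)
  have g2 : GW D 𝒜 [0, 1, 0, 0, 1, 0] := g3.conj D h (v := [1]) (by decide +kernel) (by decide +kernel) (by decide +kernel)
  have g4 : GW D 𝒜 [1, 1] := g3.conj D h (v := [0, 1, 0]) (by decide +kernel) (by decide +kernel) (by decide +kernel)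
  have g7 : GW D 𝒜 [1, 1, 1, 0, 1, 0, 1] := g1.mul D h g2 (by decide) (by decide) (by decide) (by decide +kernel)
  have g5 : GW D 𝒜 [1, 0, 1, 0, 1, 1, 1] := g1.mul D h g4 (by decide) (by decide) (by decide) (by decide +kernel)
  intro w hw
  simp only [W8, List.mem_cons, List.not_mem_nil, or_false] at hw
  rcases hw with rfl | rfl | rfl | rfl | rfl | rfl | rfl | rfl
  · exact GW.one D h
  · exact g1
  · exact g2
  · exact g3
  · exact g4
  · exact g5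
  · exact g6
  · exact g7

include D in
/-- **the row `HS`**, for a model -/
theorem cr_mod : CR L := by
  haveI : Finite L := KFacts.HS.Mod.finite D
  intro 𝒜 h
  by_cases ht : Triv 𝒜
  · exact Or.inl ht
  right
  obtain ⟨S, -, hSz, hZ⟩ := D.syl
  obtain ⟨y, hy, hy1, -, hyS, hyc⟩ := exists_central h ht S
  have hz : D.z ∈ 𝒜 := by
    rcases hZ y hyS hyc with h1 | h1
    · exact absurd h1 hy1
    · rwa [← h1]
  -- `R ≤ 𝒜`
  haveI hRn : (D.R.subgroupOf (centralizer ({D.z} : Set L))).Normal := ⟨fun n hn c => by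
    rw [mem_subgroupOf] at hn ⊢
    exact D.Rn' (mem_centralizer_singleton_iff.1 c.2) hn⟩
  have hR2 : IsPGroup 2 (D.R.subgroupOf (centralizer ({D.z} : Set L))) :=
    D.isPGroup_R.comap_of_injective _ (Subgroup.subtype_injective _)
  have hcR : ∀ r ∈ D.R, r ∈ centralizer ({D.z} : Set L) := fun r hr => D.P_le (D.RP hr)
  have hR : ∀ r ∈ D.R, r ∈ 𝒜 := by
    obtain ⟨r₁, hr₁, -, -, s₁, -, e₁, -, hs₁, -, -, ⟨n1, n2⟩, -⟩ := D.y5
    have hz1 : D.k * D.z * D.k⁻¹ ∈ 𝒜 := h.conj_mem _ hz _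
    have hs : s₁ ∈ 𝒜 := by
      rw [← e₁]
      exact comm_mem (h.restrict (centralizer ({D.z} : Set L))) hR2
        (a := ⟨D.k * D.z * D.k⁻¹, mem_centralizer_singleton_iff.2 D.kz'⟩) (n := ⟨r₁, hcR _ hr₁⟩) hz1
        (mem_subgroupOf.2 hr₁)
    have hsR : s₁ ∈ D.R := by
      rw [← e₁]
      exact D.R.mul_mem (D.Rn' D.kz' hr₁) (D.R.inv_mem hr₁)
    rcases D.subs (fam 𝒜 D.R) (fam_le _ _)
      (fun x hx c hc => h.conj_mem_fam (fun r hr => D.Rn' (D.Pcomm hx) hr) hc) with h1 | h1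
    · exfalso
      have hu2 : D.u * D.u ≠ 1 := by rw [D.uu]; exact D.z1
      rcases h1 _ (mem_fam hs hsR) with h2 | h2 | h2 | h2
      · exact n1 h2
      · exact n2 h2
      · rw [h2] at hs₁; exact hu2 hs₁
      · rw [h2] at hs₁
        apply hu2
        have := congrArg (fun t => t⁻¹) hs₁
        simpa using this
    · intro r hr
      rw [← h1] at hr
      exact ((h.mem_fam_iff D.isPGroup_R).1 hr).1
  -- the word `w00`
  have hw0 : GW D 𝒜 w00 := by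
    refine ⟨w0, w0_mem.1, ?_, ?_⟩
    · rw [w0_eq]; exact Act.el 87 w00_mem true
    · have h1 : D.π ⟨w0, KFacts.HS.Mod.Pt_le_K w0_mem.1⟩ = D.k⁻¹ * D.z * D.k := D.w_eq.symm
      rw [h1]
      have := h.conj_mem _ hz D.k⁻¹
      rwa [inv_inv] at this
  have h8 := W8_good D h hw0
  refine full_of_sylow h S fun x hxS => ?_
  obtain ⟨⟨g, hk⟩, rfl⟩ := D.surj x
  have hg : g ∈ Pt := (D.comm_z hk).1 (hSz _ hxS)
  obtain ⟨w, hw, ha⟩ := Act.exists_of_comm (mem_Pt.1 hg).1.symm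
  -- the order of the word
  have hp4 : p4B w = true := by
    have h60 := List.all_eq_true.1 chk60_all w hw
    have h60' : ∀ i < 7, (fw w)^[60] (2 ^ i) = 2 ^ i := p60B_iff h60
    obtain ⟨k, hk2⟩ := twoEl_of_mem S.2 hxS
    have h1 : D.π ⟨g ^ 2 ^ k, K.pow_mem hk _⟩ = 1 := by
      rw [← hk2, ← map_pow]; rfl
    have h2 : g ^ 2 ^ (k + 1) = 1 := by
      rw [D.π_eq_one] at h1
      rw [pow_succ, pow_mul]
      rcases h1 with h1 | h1
      · rw [h1, one_pow]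
      · rw [h1, τ_sq]
    have h3 : Act (g ^ 4) ((fw w)^[4]) := ha.pow 4
    have h4 := h3.trivial_of (k := k + 1) (n := 15) (by rw [← pow_mul, mul_comm, pow_mul, h2, one_pow]) (by decide)
      (fun i hi => by rw [← Function.iterate_mul]; exact h60' i hi)
    have h5 : ∀ i < 7, Nat.beq (fw w (fw w (fw w (fw w (2 ^ i))))) (2 ^ i) = true := fun i hi =>
      by
      have e := h4 i hi
      have e' : fw w (fw w (fw w (fw w (2 ^ i)))) = 2 ^ i := e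
      rw [e']
      exact Nat.beq_refl _
    simp only [p4B, all7, Bool.and_eq_true]
    exact ⟨⟨⟨⟨⟨⟨h5 0 (by norm_num), h5 1 (by norm_num)⟩, h5 2 (by norm_num)⟩, h5 3 (by norm_num)⟩,
      h5 4 (by norm_num)⟩, h5 5 (by norm_num)⟩, h5 6 (by norm_num)⟩
  have h9 := List.all_eq_true.1 chk4_all w hw
  rw [chk4, hp4, Bool.not_true, Bool.false_or, List.any_eq_true] at h9
  obtain ⟨w', hw', h10⟩ := h9
  rw [List.any_eq_true] at h10
  obtain ⟨v, hv, h11⟩ := h10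
  exact ((h8 w' hw').conj D h hw hv h11).all D h hR hg ha

theorem closedRow {G : Type*} [Group G] (h : Spor.IsoHS G) : ClosedRow G := by
  obtain ⟨D⟩ := exists_mod h
  haveI : Finite G := KFacts.HS.Mod.finite D
  exact CR.closedRow (cr_mod D)

end Cfsg.Agent.Foote.Row.HS
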