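import Cfsg.Agent.Foote.Ind
import Cfsg.Agent.KFacts.J3
import Cfsg.Agent.KFacts.J3Sheet
import Cfsg.Agent.KFacts.QMinusNormal
import Cfsg.Agent.KFacts.J2.SheetX

/-!
# Foote's theorem, simple case: the rows `J2`, `J3` (helper29)
-/

set_option autoImplicit false

namespace Cfsg.Agent.Foote.Row.JThree

open Subgroup Cfsg Cfsg.Agent.OddHalf.D8.Sheet Cfsg.Agent.J3Type.OneClass Cfsg.Agent.J2Type.Model
open Cfsg.Agent.J2Type.CStruct Cfsg.Agent.KFacts

universe u

/-- the sheet of `J₃` -/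
theorem sheet' (K : Type u) [Group K] (h : Spor.IsoJ3 K) :
    ∃ (z : K) (Q : Subgroup (centralizer ({z} : Set K))) (v : Fin 5 → centralizer ({z} : Set K))
      (ρ : centralizer ({z} : Set K) →* SP), IsModel Q (zc z) v ρ ∧
      Nat.card (centralizer ({z} : Set K)) = 1920 ∧ Finite K ∧
      SheetE z (centralizer ({z} : Set K)) (Q.map (centralizer ({z} : Set K)).subtype) := by
  obtain ⟨-, z, Q, v, ρ, n, u, F⟩ := J3.exists_facts h
  have hfin : Finite K := by
    apply Nat.finite_of_card_ne_zero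
    rw [F.card_K]; norm_num
  have M := F.model
  have hone : ∀ x y : K, orderOf x = 2 → orderOf y = 2 → IsConj x y := by
    have h1 : ∀ x : K, orderOf x = 2 → IsConj z x := by
      intro x hx
      obtain ⟨g, hg⟩ := F.one x (fun e => by rw [e, orderOf_one] at hx; omega) (by
        rw [← pow_two, ← hx, pow_orderOf_eq_one])
      exact isConj_iff.2 ⟨g, hg⟩
    intro x y hx hy
    exact (h1 x hx).symm.trans (h1 y hy)
  have hvne : ∀ i, (v i : K) ≠ z := by
    intro i h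
    apply zv_ne_z M 0 i
    rw [zp_zero, one_mul]
    exact Subtype.ext h
  have hin : n * z * n⁻¹ ∈ Q.map (centralizer ({z} : Set K)).subtype := by
    rw [F.nz]
    exact ⟨v 0, M.v_mem 0, rfl⟩
  have hnz : n * z * n⁻¹ ≠ z := by
    rw [F.nz]; exact hvne 0
  exact ⟨z, Q, v, ρ, M, F.card_C, hfin, J3Sheet.sheetE F.card_C M hone hin hnz F.gen⟩

theorem quasi {K : Type u} [Group K] [Finite K] {z : K} {Q : Subgroup (centralizer ({z} : Set K))}
    {v : Fin 5 → centralizer ({z} : Set K)} {ρ : centralizer ({z} : Set K) →* SP}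
    (M : IsModel Q (zc z) v ρ) (N : Subgroup K) (hN : N ≤ centralizer ({z} : Set K))
    (hQ : Q.map (centralizer ({z} : Set K)).subtype ≤ N)
    (hn : ∀ p ∈ centralizer ({z} : Set K), ∀ n ∈ N, p * n * p⁻¹ ∈ N) :
    ⁅N, centralizer ({z} : Set K)⁆ ≤ Q.map (centralizer ({z} : Set K)).subtype ∨ N = centralizer ({z} : Set K) := by
  rcases QMinus.normal_cases' M N hN hn with h1 | h1
  · left
    rw [commutator_le]
    intro x hx y hy
    have h4 : x * (y * x⁻¹ * y⁻¹) ∈ N := N.mul_mem hx (hn y hy _ (N.inv_mem hx))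
    apply h1
    rw [commutatorElement_def]
    simpa only [mul_assoc] using h4
  · right
    rwa [sup_eq_left.2 hQ] at h1

theorem card_data {K : Type u} [Group K] {z : K} {Q : Subgroup (centralizer ({z} : Set K))}
    {v : Fin 5 → centralizer ({z} : Set K)} {ρ : centralizer ({z} : Set K) →* SP}
    (hc : Nat.card (centralizer ({z} : Set K)) = 1920) (M : IsModel Q (zc z) v ρ) :
    ∃ m, Odd m ∧ m ∣ 15 ∧ Nat.card (centralizer ({z} : Set K)) =
      Nat.card (Q.map (centralizer ({z} : Set K)).subtype) * (2 ^ 2 * m) := by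
  have h1 : Nat.card Q = 32 := by
    have := QMinus.card_mul M
    omega
  refine ⟨15, by decide, dvd_rfl, ?_⟩
  rw [Nat.card_congr (Q.equivMapOfInjective _ (centralizer ({z} : Set K)).subtype_injective).toEquiv.symm, h1, hc]
  norm_num

theorem cr {K : Type u} [Group K] (h : Spor.IsoJ3 K) (hG : commutator K = ⊤) (ih : IndCR.{u} (Nat.card K)) : CR K := by
  obtain ⟨z, Q, v, ρ, M, hc, hfin, hs⟩ := sheet' K h
  exact cr_row' hG (Cor.of_sheetE hs) (Or.inl (relIndex_self _)) (fun N hN hQ hn => quasi M N hN hQ hn) ih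
    (card_data hc M) (by decide)

/-! ### `J2` -/

open Cfsg.Agent.KFacts.J2.Basic Cfsg.Agent.Co2Type.Quad Cfsg.Agent.OddHalf.D8.JTwo.Sheet

/-- a conjugate of an element of `Q` in `C(z) - Q` -/
theorem out2_of_large {K : Type u} [Group K] {Q : Subgroup K} {z : K} (h : Large Q z) {n a b : K} (ha : a ∈ Q)
    (hb : b ∈ Q) (hab : a * b = b * a * z) (hac : a * (n⁻¹ * z * n) = (n⁻¹ * z * n) * a)
    (hbc : b * (n⁻¹ * z * n) = (n⁻¹ * z * n) * b) (hnz : n * z * n⁻¹ ≠ z) :
    ∃ k : K, ∃ r ∈ Q, k * r * k⁻¹ ∈ centralizer ({z} : Set K) ∧ k * r * k⁻¹ ∉ Q := by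
  have key : ∀ r : K, r * (n⁻¹ * z * n) = (n⁻¹ * z * n) * r → n * r * n⁻¹ ∈ centralizer ({z} : Set K) := by
    intro r hr
    rw [mem_centralizer_singleton_iff]
    calc n * r * n⁻¹ * z = n * (r * (n⁻¹ * z * n)) * n⁻¹ := by group
      _ = n * ((n⁻¹ * z * n) * r) * n⁻¹ := by rw [hr]
      _ = z * (n * r * n⁻¹) := by group
  by_cases h1 : n * a * n⁻¹ ∈ Q
  · by_cases h2 : n * b * n⁻¹ ∈ Q
    · exfalso
      have h3 : (n * a * n⁻¹) * (n * b * n⁻¹) = (n * b * n⁻¹) * (n * a * n⁻¹) * (n * z * n⁻¹) := by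
        calc (n * a * n⁻¹) * (n * b * n⁻¹) = n * (a * b) * n⁻¹ := by group
          _ = n * (b * a * z) * n⁻¹ := by rw [hab]
          _ = _ := by group
      rcases h.comm _ h1 _ h2 with h4 | h4
      · rw [h4] at h3
        have h5 : n * z * n⁻¹ = 1 := left_eq_mul.1 h3
        apply h.z_ne
        calc z = n⁻¹ * (n * z * n⁻¹) * n := by group
          _ = 1 := by rw [h5]; group
      · rw [h4] at h3
        exact hnz (mul_left_cancel h3).symm
    · exact ⟨n, b, hb, key b hbc, h2⟩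
  · exact ⟨n, a, ha, key a hac, h1⟩

theorem cor_of_sheetX {K : Type u} [Group K] {z : K} {P R : Subgroup K} (h : SheetX z P R)
    (out1 : ∃ k : K, k * z * k⁻¹ ∈ P ∧ k * z * k⁻¹ ≠ z)
    (out2 : ∃ k : K, ∃ r ∈ R, k * r * k⁻¹ ∈ P ∧ k * r * k⁻¹ ∉ R) : Cor z P R where
  zz := h.zz
  z1 := h.z1
  syl := h.syl
  cen := h.cen
  perf := h.perf
  zR := h.zR
  RP := h.RP
  R2 := h.R2
  Rn := h.Rn
  Rmax := h.Rmax
  Rmin := h.Rmin
  cR := h.cR
  out1 := out1
  out2 := out2

theorem jtwo {K : Type u} [Group K] [Finite K] (h : Spor.IsoJ2 K) (hG : commutator K = ⊤)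
    (ih : IndCR.{u} (Nat.card K)) : CR K := by
  obtain ⟨t, u, Q, v, ρ, D⟩ := J2.Facts.exists_dat_of h
  have M := D.M
  have hL := J3Sheet.large D.cardC M
  have hs := J2.SheetX.sheetX D
  obtain ⟨n, hn1, hn2⟩ := D.exists_n
  have hw : n⁻¹ * t * n = t * v 0 := by
    have e1 : n⁻¹ * (v 0 : K) * n = t := by rw [← hn1]; group
    calc n⁻¹ * t * n = n⁻¹ * (t * v 0) * n * (n⁻¹ * (v 0 : K) * n)⁻¹ := by group
      _ = n⁻¹ * (n * v 0 * n⁻¹) * n * t⁻¹ := by rw [hn2, e1]
      _ = v 0 * t⁻¹ := by group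
      _ = v 0 * t := by rw [inv_eq_of_mul_eq_one_left D.tt]
      _ = t * v 0 := D.vt 0
  have hvQ : ∀ i, (v i : K) ∈ Q.map (centralizer ({t} : Set K)).subtype := fun i => ⟨v i, M.v_mem i, rfl⟩
  have hcm : ∀ i j : Fin 5, i ≠ j → i ≠ 0 → j ≠ 0 →
      (v i : K) * v j * (n⁻¹ * t * n) = (n⁻¹ * t * n) * (v i * v j) := by
    intro i j hij hi hj
    rw [hw]
    have a1 := D.v_anti hj
    have a2 := D.v_anti hi
    have t1 := D.vt i
    have t2 := D.vt j
    calc (v i : K) * v j * (t * v 0) = v i * (v j * t) * v 0 := by group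
      _ = (v i * t) * (v j * v 0) := by rw [t2]; group
      _ = t * v i * (t * (v 0 * v j)) := by rw [t1, a1]
      _ = t * (v i * t) * (v 0 * v j) := by group
      _ = (t * t) * (v i * v 0) * v j := by rw [t1]; group
      _ = t * (v 0 * v i) * v j := by rw [D.tt, a2]; group
      _ = t * v 0 * (v i * v j) := by group
  have hab : (v 1 * v 2 : K) * (v 2 * v 3) = (v 2 * v 3) * (v 1 * v 2) * t := by
    have a31 := D.v_anti (i := 3) (j := 1) (by decide)
    have a21 := D.v_anti (i := 2) (j := 1) (by decide)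
    have a32 := D.v_anti (i := 3) (j := 2) (by decide)
    have t1 := D.vt 1
    have t2 := D.vt 2
    have t3 := D.vt 3
    have hR : (v 2 * v 3 : K) * (v 1 * v 2) = t * (v 1 * v 3) := by
      calc (v 2 * v 3 : K) * (v 1 * v 2) = v 2 * (v 3 * v 1) * v 2 := by group
        _ = (v 2 * t) * v 1 * (v 3 * v 2) := by rw [a31]; group
        _ = t * (v 2 * v 1) * (v 3 * v 2) := by rw [t2]; group
        _ = t * (t * (v 1 * v 2)) * (t * (v 2 * v 3)) := by rw [a21, a32]
        _ = (t * t) * (v 1 * (v 2 * t)) * (v 2 * v 3) := by group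
        _ = (v 1 * t) * (v 2 * v 2) * v 3 := by rw [D.tt, t2]; group
        _ = t * (v 1 * v 3) := by rw [t1, D.vv 2]; group
    rw [hR]
    calc (v 1 * v 2 : K) * (v 2 * v 3) = v 1 * (v 2 * v 2) * v 3 := by group
      _ = v 1 * v 3 := by rw [D.vv 2]; group
      _ = (t * t) * (v 1 * v 3) := by rw [D.tt, one_mul]
      _ = t * (v 1 * v 3) * t := by
        rw [mul_assoc t t, mul_assoc t (v 1 * v 3 : K) t]
        congr 1
        calc t * (v 1 * v 3 : K) = (t * v 1) * v 3 := by group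
          _ = v 1 * (t * v 3) := by rw [← t1]; group
          _ = v 1 * v 3 * t := by rw [← t3]; group
  have hnz : n * t * n⁻¹ ≠ t := by rw [hn1]; exact D.v_ne_t 0
  have o2 := out2_of_large hL (n := n) (a := v 1 * v 2) (b := v 2 * v 3)
    (mul_mem (hvQ 1) (hvQ 2)) (mul_mem (hvQ 2) (hvQ 3)) hab (hcm 1 2 (by decide) (by decide) (by decide))
    (hcm 2 3 (by decide) (by decide) (by decide)) hnz
  have o1 : ∃ k : K, k * t * k⁻¹ ∈ centralizer ({t} : Set K) ∧ k * t * k⁻¹ ≠ t :=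
    ⟨n, by rw [hn1]; exact (v 0).2, hnz⟩
  exact cr_row' hG (cor_of_sheetX hs o1 o2) (Or.inl (relIndex_self _)) (fun N hN hQ hn => quasi M N hN hQ hn) ih
    (card_data D.cardC M) (by decide)

end Cfsg.Agent.Foote.Row.JThree
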