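import Cfsg.Agent.Foote.Bridge
import Cfsg.Agent.Foote.Sheet
import Cfsg.Agent.KFacts.Th.Main
import Cfsg.Agent.ClosedTwo.Alt
import Cfsg.Agent.KFacts.MonsterE
import Cfsg.Prelude.Def_Spor_M

-- merged: Cfsg.Agent.Foote.Row.Th
section

/-!
# Foote's theorem, simple case: the row `Th` (helper29)
-/

set_option autoImplicit false

namespace Cfsg.Agent.Foote

open Subgroup

/-- `LargeSheet.Data` with `CR L` -/
theorem cr_of_data {K : Type*} [Group K] [Finite K] (hG : commutator K = ⊤) {Q : Subgroup K} {z : K} {L : Type*}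
    [Group L] [IsSimpleGroup L] {π : Subgroup.centralizer ({z} : Set K) →* L}
    (D : Cfsg.Agent.KFacts.LargeSheet.Data Q z L π) (hL : CR L) : CR K :=
  cr_of_sheet hG (Cor.of_sheetE D.sheet)
    (fun _ _ hx _ hxP _ => absurd (mem_centralizer_singleton_iff.2 hx) hxP) hL π D.surj
    fun x _ hx => (D.ker x).1 hx

namespace Row.Th

theorem cr (hG : commutator Spor.Th = ⊤) : CR Spor.Th := by
  have := Cfsg.Agent.KFacts.Th.Main.finite
  have hs : IsSimpleGroup (alternatingGroup (Fin 9)) := alternatingGroup.isSimpleGroup (by simp)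
  obtain ⟨π, D⟩ := Cfsg.Agent.KFacts.Th.Main.exists_data Cfsg.Agent.KFacts.Th.Main.ctx
  exact cr_of_data hG D (cr_of_closedRow Cfsg.Agent.ClosedTwo.Alt.closedRow)

end Row.Th

end Cfsg.Agent.Foote

end

-- merged: Cfsg.Agent.Foote.Row.MonsterModel
section

/-!
# Foote's theorem, simple case: the row `M`, for the model (helper29)
-/

set_option autoImplicit false

namespace Cfsg.Agent.Foote.Row.Monster

open Subgroup Cfsg Cfsg.Spor Cfsg.Agent.MonsterX.Model Cfsg.Agent.MonsterX.MainSimple
  Cfsg.Agent.MonsterX.MainBasic Cfsg.Agent.KFacts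

variable {W : Type} [AddCommGroup W] [Module ℚ W] {M : MData W}

theorem cr_model (hG : MGroup M Co1) (hR : MRep M) (hL : MLat M) (hO : MOrbit M) (hT : MTrans M)
    (hp : _root_.commutator M.G = ⊤) (hC : CR Spor.Co1) : CR M.G := by
  have hfin := G_finite hO
  have hco := MonsterE.simple_Co1
  obtain ⟨π, D⟩ := MonsterE.data_model hG hR hL hO hT
  exact cr_of_data hp D hC

theorem cr_of (hG : MGroup M Co1) (hR : MRep M) (hL : MLat M) (hO : MOrbit M) (hT : MTrans M)
    (hM : Nonempty (M.G ≃* Spor.Monster)) (hp : _root_.commutator Spor.Monster = ⊤) (hC : CR Spor.Co1) :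
    CR Spor.Monster := by
  obtain ⟨e⟩ := hM
  exact (cr_model hG hR hL hO hT (perfect_map e.symm hp) hC).of_equiv e.symm

end Cfsg.Agent.Foote.Row.Monster

end
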